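import Groth.Agent.EtPBCProperLib.Leray
import Groth.Agent.EpsLib.PushDerived

/-!
# Cohomological dimension of a total space from that of the base and of the higher direct images
-/

set_option autoImplicit false
set_option linter.all false
set_option backward.isDefEq.respectTransparency false
set_option backward.isDefEq.respectTransparency.types false
set_option maxHeartbeats 1000000
set_option synthInstance.maxHeartbeats 400000

universe u

open CategoryTheory CategoryTheory.Limits CategoryTheory.Abelian AlgebraicGeometry Opposite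
open Groth.Agent Groth.Agent.EtShLib EtPBCProperLib

attribute [local instance] EtSliceLib.pullExact CategoryTheory.Abelian.hasFiniteBiproducts

noncomputable section

namespace EtPBCCdLib

/-- Dimension shifting along a morphism to a base of cohomological dimension `d`. -/
theorem subsingleton_of_fibred {X P : Scheme.{u}} (q : X ⟶ P) [QuasiCompact q] [QuasiSeparated q] [CompactSpace X]
    [QuasiSeparatedSpace X] {d : ℕ} (hP : EtCoh.CohDimLE P d) :
    ∀ (k : ℕ) (G : EtCoh.Ab X), EtCoh.IsTorsion G → (∀ s, k < s → IsZero ((EtCoh.Rpush q s).obj G)) →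
      ∀ m, k + d < m → Subsingleton (EtCoh.H X G m) := by
  intro k
  induction k with
  | zero =>
    intro G hG hR m hm
    haveI := hP _ (isTorsion_push q hG) m (by omega)
    exact (Equiv.ofBijective _ (Groth.Agent.S14451.result q G hR m)).symm.subsingleton
  | succ k ih =>
    intro G hG hR m hm
    obtain ⟨J, hJ, i, hi⟩ := exists_mono_tor hG
    haveI := hJ
    haveI := hi
    let S : ShortComplex (EtCoh.Ab X) := ShortComplex.mk i (cokernel.π i) (cokernel.condition i)
    have hS : S.ShortExact := { exact := ShortComplex.exact_of_g_is_cokernel _ (cokernelIsCokernel _) }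
    haveI : PreservesLimitsOfSize.{0, 0} (EtCoh.push q) := (EtCoh.pullPushAdj q).rightAdjoint_preservesLimits
    haveI : PreservesFiniteLimits (EtCoh.push q) := PreservesLimitsOfSize.preservesFiniteLimits _
    haveI : (EtCoh.push q).Additive := { }
    obtain ⟨m', rfl⟩ : ∃ m', m = m' + 1 := ⟨m - 1, by omega⟩
    haveI : Subsingleton (EtCoh.H X S.X₃ m') := ih S.X₃ (isTorsion_cokernel i (isTorsion_tor J)) (fun s hs => by
      obtain ⟨e⟩ := Groth.Agent.EpsLib.nonempty_iso_succ (EtCoh.push q) hS s
        (isZero_Rpush_tor_qcqs q J s (by omega)) (isZero_Rpush_tor_qcqs q J (s + 1) (by omega))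
      exact (hR (s + 1) (by omega)).of_iso e) m' (by omega)
    haveI : Subsingleton (EtCoh.H X S.X₂ (m' + 1)) :=
      subsingleton_tor J (𝟭 _) (m' + 1) fun n hn => subsingleton_H_nTor J hn _ (by omega)
    refine subsingleton_of_forall_eq 0 fun x => ?_
    obtain ⟨c, hc⟩ := Ext.covariant_sequence_exact₁ _ hS (n₁ := m' + 1) x
      (Subsingleton.elim (α := EtCoh.H X S.X₂ (m' + 1)) _ _) (n₀ := m') rfl
    rw [← hc, show c = 0 from Subsingleton.elim (α := EtCoh.H X S.X₃ m') _ _, Ext.zero_comp]

end EtPBCCdLib

end
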