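import Groth.Agent.EtPBCCdLib.Dim
import Groth.Agent.EtPBCCdLib.Fibred
import Groth.Agent.EtPBCProperLib.Shriek
import Groth.Agent.EtPBCProperLib.SepCurve
import Groth.Agent.EtShLib.ExtZeroLower
import Groth.Agent.EtShLib.RestrPull
import Groth.Agent.EtShLib.FiniteStrict
import Groth.Agent.EtShLib.FiniteExact
import Groth.Agent.AlgSpRegLib.ImageImmersion
import Groth.Agent.CycP1Lib.Graph
import Groth.Agent.GenusZeroLib.PSpace
import Groth.Agent.ProjDegLib.Criterion
import Groth.Agent.DevissLib.ClosedImm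

/-!
# The cohomological dimension of proper schemes over separably closed fields
-/

set_option autoImplicit false
set_option linter.all false
set_option backward.isDefEq.respectTransparency false
set_option backward.isDefEq.respectTransparency.types false
set_option maxHeartbeats 2000000
set_option synthInstance.maxHeartbeats 400000

universe u

open CategoryTheory CategoryTheory.Limits CategoryTheory.Abelian AlgebraicGeometry Opposite TopologicalSpace
open Groth.Agent Groth.Agent.EtShLib EtPBCProperLib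

attribute [local instance] EtSliceLib.pullExact

noncomputable section

namespace EtPBCCdLib

/-- Every proper scheme of dimension at most `n` over a separably closed field has cohomological dimension at most `2n`. -/
def CdBound (n : ℕ) : Prop :=
  ∀ (k : Type u) [Field k] [IsSepClosed k] (X : Scheme.{u}) (a : X ⟶ Spec (CommRingCat.of k)) [IsProper a],
    topologicalKrullDim X ≤ n → EtCoh.CohDimLE X (2 * n)

theorem cdBound_zero : CdBound.{u} 0 := by
  intro k _ _ X a _ hdim F hF q hq
  haveI : IsLocallyNoetherian X := LocallyOfFiniteType.isLocallyNoetherian a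
  haveI : CompactSpace X := QuasiCompact.compactSpace_of_compactSpace a
  haveI := IsLocallyArtinian.of_topologicalKrullDim_le_zero (X := X) (by exact_mod_cast hdim)
  haveI : Finite X := finite_of_compact_of_discrete
  haveI : LocallyQuasiFinite a := LocallyQuasiFinite.of_finite_preimage_singleton _ fun _ => Set.toFinite _
  haveI : IsFinite a := IsFinite.of_isProper_of_locallyQuasiFinite a
  haveI : IsSepClosed (IsLocalRing.ResidueField k) := SkySumLib.isSepClosed_residueField_self k
  exact EtShLib.subsingleton_H_of_finite k X a F q (by omega)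

/-- A sheaf supported on a closed subscheme has the cohomology of its restriction. -/
theorem subsingleton_H_of_supported {Z X : Scheme.{u}} (i : Z ⟶ X) [IsClosedImmersion i] (G : EtCoh.Ab X)
    (hG : ∀ (Ω : Type u) [Field Ω] [IsSepClosed Ω] (ξ : Spec (CommRingCat.of Ω) ⟶ X),
      ξ.base default ∉ Set.range i.base → IsZero ((stk (A := AddCommGrpCat.{u + 1}) ξ).obj G))
    (m : ℕ) (h : Subsingleton (EtCoh.H Z ((EtCoh.pull i).obj G) m)) : Subsingleton (EtCoh.H X G m) := by
  let u₀ := (EtCoh.pullPushAdj i).unit.app G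
  haveI : IsIso u₀ := isIso_of_stalks (A := AddCommGrpCat.{u + 1}) _ fun Ω _ _ ξ => by
    by_cases hξ : ξ.base default ∈ Set.range i.base
    · obtain ⟨ζ, rfl⟩ := exists_factor i ξ hξ
      exact isIso_unit_stalk_closed i G ζ
    · haveI := subsingleton_push_stalk i ((EtCoh.pull i).obj G) ξ hξ
      exact isIso_of_source_target_iso_zero _ (hG Ω ξ hξ).isoZero
        (AddCommGrpCat.isZero_of_subsingleton ((stk (A := AddCommGrpCat.{u + 1}) ξ).obj ((EtCoh.push i).obj ((EtCoh.pull i).obj G)))).isoZero
  haveI : Subsingleton (EtCoh.H X ((EtCoh.push i).obj ((EtCoh.pull i).obj G)) m) :=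
    (Equiv.ofBijective _ (Groth.Agent.S14451.result i ((EtCoh.pull i).obj G)
      (fun s hs => EtShLib.isZero_rightDerived_push_finite i _ s hs) m)).subsingleton
  exact @Function.Injective.subsingleton _ _ _ (EtAcycLib.bijective_mk₀_iso_postcomp (asIso u₀) m).1 this

theorem isTorsion_restrAlong {U X : Scheme.{u}} (j : U ⟶ X) [IsOpenImmersion j] [AlgebraicGeometry.Etale j]
    [EtShriek.JCont j] {G : EtCoh.Ab X} (hG : EtCoh.IsTorsion G) : EtCoh.IsTorsion ((EtShriek.restrAlong j).obj G) := by
  obtain ⟨e⟩ := nonempty_pull_iso_restrAlong j G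
  exact Groth.Agent.EtShLib.isTorsion_of_iso e (CdCurveLib.isTorsion_pull_map j hG)

/-- A nonconstant morphism from a nonempty affine open of an integral scheme to the projective line. -/
theorem exists_toLine {k : Type u} [Field k] {X : Scheme.{u}} [IsIntegral X] (a : X ⟶ Spec (CommRingCat.of k))
    {U : X.Opens} (hU : IsAffineOpen U) (u : X) (huU : u ∈ U) (hu : u ≠ genericPoint X) :
    ∃ q : (U : Scheme.{u}) ⟶ CohB1.ProjSpace 1 k, q ≫ CohB1.ProjSpace.toSpec 1 k = U.ι ≫ a ∧
      ∃ hξ : genericPoint X ∈ U, q.base ⟨u, huU⟩ ≠ q.base ⟨genericPoint X, hξ⟩ := by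
  have hξ : genericPoint X ∈ U := ((genericPoint_spec X).mem_open_set_iff U.2).2 ⟨u, trivial, huU⟩
  haveI : IsAffine (U : Scheme.{u}) := hU
  haveI : Nonempty (U : Scheme.{u}) := ⟨⟨u, huU⟩⟩
  haveI : IsIntegral (U : Scheme.{u}) := isIntegral_of_isOpenImmersion U.ι
  let W : Scheme.{u} := U
  let u' : W := ⟨u, huU⟩
  let ξ' : W := ⟨genericPoint X, hξ⟩
  obtain ⟨t, ht0, htu⟩ : ∃ t : Γ(W, ⊤), t ≠ 0 ∧ u' ∉ W.basicOpen t := by
    by_contra hne
    push_neg at hne
    have h1 : W.isoSpec.hom.base u' = W.isoSpec.hom.base ξ' := by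
      refine PrimeSpectrum.ext (le_antisymm ?_ ?_)
      · intro t ht
        by_contra h2
        have h0 : t ≠ 0 := fun h => h2 (h ▸ Submodule.zero_mem _)
        have h3 := hne t h0
        rw [← Scheme.toSpecΓ_preimage_basicOpen] at h3
        exact h3 ht
      · intro t ht
        by_cases h0 : t = 0
        · exact h0 ▸ Submodule.zero_mem _
        · exfalso
          have h3 : ξ' ∈ W.basicOpen t := by
            obtain ⟨w, hw⟩ := Opens.ne_bot_iff_nonempty _ |>.1 fun hb => h0 ((basicOpen_eq_bot_iff t).1 hb)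
            have hgen : ξ' = genericPoint W := U.ι.isOpenEmbedding.injective
              (genericPoint_eq_of_isOpenImmersion U.ι).symm
            rw [hgen]
            exact ((genericPoint_spec W).mem_open_set_iff (W.basicOpen t).2).2 ⟨w, trivial, hw⟩
          rw [← Scheme.toSpecΓ_preimage_basicOpen] at h3
          exact h3 ht
    exact hu (congrArg Subtype.val (W.isoSpec.hom.homeomorph.injective h1))
  let c : k →+* Γ(W, ⊤) := ((U.ι ≫ a).appTop.hom).comp (Scheme.ΓSpecIso (CommRingCat.of k)).inv.hom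
  let f : MvPolynomial (Fin (1 + 1)) k →+* Γ(W, ⊤) := MvPolynomial.eval₂Hom c ![1, t]
  have hirr : (HomogeneousIdeal.irrelevant (CohB1.polyGrading 1 k)).toIdeal.map f = ⊤ := by
    refine Ideal.eq_top_of_isUnit_mem _ (Ideal.mem_map_of_mem f
      (HomogeneousIdeal.mem_irrelevant_of_mem (CohB1.polyGrading 1 k) Nat.one_pos
        (MvPolynomial.isHomogeneous_X k (0 : Fin (1 + 1))))) ?_
    simp [f]
  refine ⟨Proj.fromOfGlobalSections _ f hirr, ?_, hξ, fun heq => ?_⟩
  · show Proj.fromOfGlobalSections _ f hirr ≫ Proj.toSpecZero _ ≫ Spec.map _ = U.ι ≫ a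
    rw [← Category.assoc, Proj.fromOfGlobalSections_toSpecZero, Category.assoc, ← Spec.map_comp]
    have h1 : CommRingCat.ofHom (algebraMap k (CohB1.polyGrading 1 k 0)) ≫ CommRingCat.ofHom (f.comp (algebraMap _ _)) =
        (Scheme.ΓSpecIso (CommRingCat.of k)).inv ≫ (U.ι ≫ a).appTop := by
      refine CommRingCat.hom_ext (RingHom.ext fun r => ?_)
      show f (MvPolynomial.C r) = _
      exact MvPolynomial.eval₂Hom_C _ _ r
    rw [h1, Spec.map_comp, ← Category.assoc, ← Scheme.toSpecΓ_naturality, Category.assoc,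
      toSpecΓ_SpecMap_ΓSpecIso_inv, Category.comp_id]
  · have hmem : ∀ w : W, (Proj.fromOfGlobalSections _ f hirr).base w ∈
        Proj.basicOpen (CohB1.polyGrading 1 k) (MvPolynomial.X (1 : Fin (1 + 1))) ↔ w ∈ W.basicOpen t := fun w => by
      have h2 := Proj.fromOfGlobalSections_preimage_basicOpen (CohB1.polyGrading 1 k) f hirr Nat.one_pos
        (MvPolynomial.isHomogeneous_X k (1 : Fin (1 + 1)))
      rw [show f (MvPolynomial.X (1 : Fin (1 + 1))) = t by simp [f]] at h2
      exact Iff.of_eq (congrArg (w ∈ ·) h2)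
    have h3 : ξ' ∈ W.basicOpen t := by
      obtain ⟨w, hw⟩ := Opens.ne_bot_iff_nonempty _ |>.1 fun hb => ht0 ((basicOpen_eq_bot_iff t).1 hb)
      have hgen : ξ' = genericPoint W := U.ι.isOpenEmbedding.injective (genericPoint_eq_of_isOpenImmersion U.ι).symm
      rw [hgen]
      exact ((genericPoint_spec W).mem_open_set_iff (W.basicOpen t).2).2 ⟨w, trivial, hw⟩
    exact htu ((hmem u').1 (heq ▸ (hmem ξ').2 h3))

/-- The key step: sheaves extended by zero from an affine open of an integral scheme. -/
theorem cohDim_extZero {n : ℕ} (IH : CdBound.{u} n) {k : Type u} [Field k] [IsSepClosed k] {X : Scheme.{u}}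
    [IsIntegral X] (a : X ⟶ Spec (CommRingCat.of k)) [IsProper a]
    (hdim : topologicalKrullDim X ≤ ((n + 1 : ℕ) : WithBot ℕ∞)) {U : X.Opens} (hU : IsAffineOpen U) (hne : Nonempty U)
    (G : EtCoh.Ab X) (hG : EtCoh.IsTorsion G)
    (hsupp : ∀ (Ω : Type u) [Field Ω] [IsSepClosed Ω] (ξ : Spec (CommRingCat.of Ω) ⟶ X),
      ξ.base default ∉ (U : Set X) → IsZero ((stk (A := AddCommGrpCat.{u + 1}) ξ).obj G))
    (m : ℕ) (hm : 2 * (n + 1) < m) : Subsingleton (EtCoh.H X G m) := by
  haveI : JacobsonSpace X := LocallyOfFiniteType.jacobsonSpace a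
  obtain ⟨u, huU, huc⟩ : ((U : Set X) ∩ closedPoints X).Nonempty :=
    nonempty_inter_closedPoints ⟨_, hne.some.2⟩ U.2.isLocallyClosed
  by_cases hu : u = genericPoint X
  · haveI : Subsingleton X := by
      have h1 : ({u} : Set X) = Set.univ := (huc : IsClosed ({u} : Set X)).closure_eq.symm.trans (hu ▸ genericPoint_closure X)
      exact ⟨fun x y => ((h1.ge (Set.mem_univ x) : x = u)).trans ((h1.ge (Set.mem_univ y) : y = u)).symm⟩
    haveI : DiscreteTopology X := Subsingleton.discreteTopology
    exact IH k X a ((topologicalKrullDim_zero_of_discreteTopology X).trans (by exact_mod_cast Nat.zero_le n)) G hG m (by omega)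
  obtain ⟨q₀, hq₀, hξ, hne'⟩ := exists_toLine a hU u huU hu
  let P := CohB1.ProjSpace 1 k
  let p := CohB1.ProjSpace.toSpec 1 k
  haveI : IsProper p := ProjDegLib.toSpec_isProper k 1
  haveI : AlgebraicGeometry.Etale U.ι := inferInstance
  haveI : EtShriek.JCont U.ι := inferInstance
  haveI : IsAffine (U : Scheme.{u}) := hU
  haveI : Nonempty (U : Scheme.{u}) := hne
  haveI : IsIntegral (U : Scheme.{u}) := isIntegral_of_isOpenImmersion U.ι
  let γ : (U : Scheme.{u}) ⟶ pullback a p := pullback.lift U.ι q₀ hq₀.symm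
  have hγ : γ ≫ pullback.fst a p = U.ι := pullback.lift_fst _ _ _
  haveI : IsImmersion (γ ≫ pullback.fst a p) := by rw [hγ]; infer_instance
  haveI : IsImmersion γ := IsImmersion.of_comp γ (pullback.fst a p)
  haveI : QuasiSeparatedSpace ↥(pullback a p) := quasiSeparatedSpace_of_quasiSeparated (pullback.fst a p ≫ a)
  haveI : QuasiCompact γ := QuasiCompact.of_comp γ (pullback.fst a p ≫ a)
  haveI : IsOpenImmersion γ.toImage := AlgSpRegLib.isOpenImmersion_toImage_of_reduced γ
  haveI : IsIntegral γ.image := CycP1Lib.isIntegral_image γ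
  let π : γ.image ⟶ X := γ.imageι ≫ pullback.fst a p
  let q : γ.image ⟶ P := γ.imageι ≫ pullback.snd a p
  haveI : IsProper π := inferInstance
  haveI : IsProper q := inferInstance
  have hjπ : γ.toImage ≫ π = U.ι := by rw [Scheme.Hom.toImage_imageι_assoc, hγ]
  have hjq : γ.toImage ≫ q = q₀ := by rw [Scheme.Hom.toImage_imageι_assoc]; exact pullback.lift_snd _ _ _
  haveI : LocallyQuasiFinite (γ.toImage ≫ π) := by rw [hjπ]; infer_instance
  let H := (EtShriek.restrAlong U.ι).obj G
  have hH : EtCoh.IsTorsion H := isTorsion_restrAlong U.ι hG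
  obtain ⟨e₁⟩ := nonempty_iso_extZero U.ι H G (Iso.refl _) fun Ω _ _ ξ hξ => hsupp Ω ξ (by
    have h1 := hξ ⟨default, rfl⟩
    rwa [Scheme.Opens.range_ι] at h1)
  obtain ⟨e₂⟩ := nonempty_lowerShriek_comp γ.toImage π H
  rw [hjπ] at e₂
  let e : G ≅ (EtCoh.push π).obj ((EtShriek.lowerShriek γ.toImage).obj H) :=
    e₁ ≪≫ (extZeroPreIso U.ι ≪≫ (lowerShriekIso U.ι).symm).app H ≪≫ e₂
  have hG' : EtCoh.IsTorsion ((EtShriek.lowerShriek γ.toImage).obj H) := isTorsion_lowerShriek γ.toImage H hH
  haveI : IsProper (γ.imageι ≫ pullback.fst a p ≫ a) := inferInstance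
  haveI : CompactSpace γ.image := QuasiCompact.compactSpace_of_compactSpace (γ.imageι ≫ pullback.fst a p ≫ a)
  haveI : QuasiSeparatedSpace γ.image := quasiSeparatedSpace_of_quasiSeparated (γ.imageι ≫ pullback.fst a p ≫ a)
  have hP : EtCoh.CohDimLE P 2 := cohDimLE_two p (le_of_eq (by exact_mod_cast GenusZeroLib.dim_projSpace k 1))
  have hd : topologicalKrullDim γ.image ≤ ((n + 1 : ℕ) : WithBot ℕ∞) := by
    let ξU : (U : Scheme.{u}) := ⟨genericPoint X, hξ⟩
    have hgU : ξU = genericPoint (U : Scheme.{u}) := U.ι.isOpenEmbedding.injective (genericPoint_eq_of_isOpenImmersion U.ι).symm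
    have h1 := FibDimLib.topologicalKrullDim_closure_of_isOpenEmbedding (π ≫ a) γ.toImage.isOpenEmbedding ξU
    have h2 := FibDimLib.topologicalKrullDim_closure_of_isOpenEmbedding a U.ι.isOpenEmbedding ξU
    have h3 : γ.toImage.base ξU = genericPoint γ.image := by rw [hgU]; exact genericPoint_eq_of_isOpenImmersion γ.toImage
    rw [h3, genericPoint_closure] at h1
    rw [← IsHomeomorph.topologicalKrullDim_eq _ (Homeomorph.Set.univ γ.image).isHomeomorph, ← h1, h2]
    exact (topologicalKrullDim_subspace_le X _).trans hdim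
  have hR : ∀ s, 2 * n < s → IsZero ((EtCoh.Rpush q s).obj ((EtShriek.lowerShriek γ.toImage).obj H)) := fun s hs => by
    refine isZero_of_geomPt_stalks _ fun y => ?_
    let R := HenselLib.SH (P.presheaf.stalk y)
    have hS : Hensel.IsStrictHenselization (P.presheaf.stalk y) R := inferInstance
    haveI : IsSepClosed (IsLocalRing.ResidueField R) := hS.isSepClosure.sep_closed
    refine ⟨R, inferInstance, inferInstance, inferInstance, inferInstance, inferInstance, ?_⟩
    obtain ⟨es⟩ := nonempty_stalk_iso q (Hens2.geomPt P y R) _ hG' s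
    refine es.addCommGroupIsoToAddEquiv.toEquiv.subsingleton_congr.2 ?_
    refine IH (IsLocalRing.ResidueField R) _ (pullback.snd q (Hens2.geomPt P y R)) ?_ _ (CdCurveLib.isTorsion_pull_map _ hG') s hs
    rw [dim_pullback_point]
    refine fibre_dim_le p q hd (γ.toImage.base ⟨u, huU⟩) ?_ _
    rw [← genericPoint_eq_of_isOpenImmersion γ.toImage, ← Scheme.Hom.comp_apply, ← Scheme.Hom.comp_apply, hjq,
      ← show (⟨genericPoint X, hξ⟩ : (U : Scheme.{u})) = genericPoint (U : Scheme.{u}) from
        U.ι.isOpenEmbedding.injective (genericPoint_eq_of_isOpenImmersion U.ι).symm]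
    exact hne'
  haveI : Subsingleton (EtCoh.H γ.image ((EtShriek.lowerShriek γ.toImage).obj H) m) :=
    subsingleton_of_fibred q hP (2 * n) _ hG' hR m (by omega)
  haveI : Subsingleton (EtCoh.H X ((EtCoh.push π).obj ((EtShriek.lowerShriek γ.toImage).obj H)) m) :=
    (Equiv.ofBijective _ (Groth.Agent.S14451.result π _
      (fun s hs => isZero_Rpush_lowerShriek γ.toImage π H hH s hs) m)).subsingleton
  exact @Function.Injective.subsingleton _ _ _ (EtAcycLib.bijective_mk₀_iso_postcomp e m).1 inferInstance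

theorem cdBound_succ {n : ℕ} (IH : CdBound.{u} n) : CdBound.{u} (n + 1) := by
  intro k _ _ X a _ hdim F hF m hm
  haveI : IsLocallyNoetherian X := LocallyOfFiniteType.isLocallyNoetherian a
  haveI : CompactSpace X := QuasiCompact.compactSpace_of_compactSpace a
  haveI : AlgebraicGeometry.IsNoetherian X := { }
  suffices H : ∀ (C : Closeds X) (Z : Scheme.{u}) (i : Z ⟶ X), IsClosedImmersion i → Set.range i.base ⊆ C →
      ∀ G : EtCoh.Ab Z, EtCoh.IsTorsion G → Subsingleton (EtCoh.H Z G m) from
    H ⊤ X (𝟙 X) inferInstance (Set.subset_univ _) F hF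
  intro C
  induction C using WellFoundedLT.induction with
  | _ C hC =>
    intro Z i _ hiC G hG
    haveI : IsProper (i ≫ a) := inferInstance
    have hdZ : topologicalKrullDim Z ≤ ((n + 1 : ℕ) : WithBot ℕ∞) := i.isEmbedding.isInducing.topologicalKrullDim_le.trans hdim
    haveI : IsLocallyNoetherian Z := LocallyOfFiniteType.isLocallyNoetherian (i ≫ a)
    haveI : CompactSpace Z := QuasiCompact.compactSpace_of_compactSpace (i ≫ a)
    haveI : AlgebraicGeometry.IsNoetherian Z := { }
    cases isEmpty_or_nonempty Z with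
    | inl hE =>
      exact IH k Z (i ≫ a) ((topologicalKrullDim_zero_of_discreteTopology Z).trans (by exact_mod_cast Nat.zero_le n))
        G hG m (by omega)
    | inr hne =>
      obtain ⟨z₀⟩ := hne
      let T := irreducibleComponent z₀
      obtain ⟨o, ho, ⟨z₁, hz₁⟩, hoT⟩ := NoetherianSpace.exists_isOpen_nonempty_subset_irreducibleComponent T
        (irreducibleComponent_mem_irreducibleComponents z₀)
      obtain ⟨_, ⟨V, hU, rfl⟩, hzU, hUo⟩ := Z.isBasis_affineOpens.exists_subset_of_mem_open hz₁ ho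
      let U : Z.Opens := V
      haveI : AlgebraicGeometry.Etale U.ι := inferInstance
      haveI : EtShriek.JCont U.ι := inferInstance
      let C' : Closeds Z := ⟨(U : Set Z)ᶜ, U.2.isClosed_compl⟩
      let I := Scheme.IdealSheafData.vanishingIdeal C'
      have hr : Set.range I.subschemeι.base = (U : Set Z)ᶜ :=
        I.range_subschemeι.trans (Scheme.IdealSheafData.coe_support_vanishingIdeal C')
      obtain ⟨w, hses⟩ := shortExact_recollement I.subschemeι U (by rw [hr, compl_compl]) G
      let i' := I.subschemeι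
      have hQ : Subsingleton (EtCoh.H Z ((EtCoh.push i').obj ((EtCoh.pull i').obj G)) m) := by
        let D : Closeds X := ⟨i.base '' (U : Set Z)ᶜ, i.isClosedEmbedding.isClosedMap _ U.2.isClosed_compl⟩
        have hlt : D < C := lt_of_le_of_ne
          (fun x hx => hiC (Set.image_subset_range _ _ hx)) fun h => by
            have h1 : i.base z₁ ∈ (D : Set X) := h ▸ hiC ⟨z₁, rfl⟩
            obtain ⟨z, hz, he⟩ := h1
            exact hz (i.isClosedEmbedding.injective he ▸ hzU)
        haveI := hC D hlt I.subscheme (i' ≫ i) inferInstance (by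
          rintro _ ⟨z, rfl⟩
          exact ⟨i'.base z, hr.le ⟨z, rfl⟩, rfl⟩) _ (CdCurveLib.isTorsion_pull_map i' hG)
        exact (Equiv.ofBijective _ (Groth.Agent.S14451.result i' ((EtCoh.pull i').obj G)
          (fun s hs => EtShLib.isZero_rightDerived_push_finite i' _ s hs) m)).subsingleton
      have hG' : EtCoh.IsTorsion ((EtShriek.extZero U.ι).obj ((EtShriek.restrAlong U.ι).obj G)) :=
        Groth.Agent.EtShLib.isTorsion_of_iso ((extZeroPreIso U.ι ≪≫ (lowerShriekIso U.ι).symm).app _).symm
          (isTorsion_lowerShriek U.ι _ (isTorsion_restrAlong U.ι hG))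
      have hK : Subsingleton (EtCoh.H Z ((EtShriek.extZero U.ι).obj ((EtShriek.restrAlong U.ι).obj G)) m) := by
        obtain ⟨Z₀, i₀, _, _, hr₀⟩ := DevissLib.exists_integral_closed isClosed_irreducibleComponent
          (isIrreducible_irreducibleComponent (x := z₀))
        refine subsingleton_H_of_supported i₀ _ (fun Ω _ _ ξ hξ => isZero_stalk_extZero U.ι _ ξ fun h => hξ ?_) m ?_
        · rw [Scheme.Opens.range_ι] at h
          exact hr₀.ge (hoT (hUo h))
        haveI : IsProper (i₀ ≫ i ≫ a) := inferInstance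
        obtain ⟨y, hy⟩ := hr₀.ge (hoT (hUo hzU))
        refine cohDim_extZero IH (i₀ ≫ i ≫ a) (i₀.isEmbedding.isInducing.topologicalKrullDim_le.trans hdZ)
          (hU.preimage i₀) ⟨⟨y, show i₀.base y ∈ U from hy.symm ▸ hzU⟩⟩ _ (CdCurveLib.isTorsion_pull_map i₀ hG') ?_ m hm
        intro Ω _ _ ξ hξ
        refine IsZero.of_iso (isZero_stalk_extZero U.ι _ (ξ ≫ i₀) fun h => hξ ?_) ((stalkPull i₀ ξ AddCommGrpCat.{u + 1}).app _).symm
        rw [Scheme.Opens.range_ι] at h
        exact h
      refine subsingleton_of_forall_eq 0 fun x => ?_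
      obtain ⟨c, hc⟩ := Ext.covariant_sequence_exact₂ _ hses (n := m) x
        (Subsingleton.elim (α := EtCoh.H Z ((EtCoh.push i').obj ((EtCoh.pull i').obj G)) m) _ _)
      rw [← hc, show c = 0 from Subsingleton.elim (α := EtCoh.H Z ((EtShriek.extZero U.ι).obj ((EtShriek.restrAlong U.ι).obj G)) m) _ _,
        Ext.zero_comp]

/-- The cohomological dimension of a proper scheme is at most twice its dimension. -/
theorem cdBound : ∀ n, CdBound.{u} n
  | 0 => cdBound_zero
  | n + 1 => cdBound_succ (cdBound n)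

/-- Higher direct images of torsion sheaves vanish above twice the dimension of the fibres. -/
theorem isZero_Rpush_of_fibre_dim {X Y : Scheme.{u}} (f : X ⟶ Y) [IsProper f] (n : ℕ)
    (hdim : ∀ y : Y, topologicalKrullDim (f.fiber y) ≤ n) (F : EtCoh.Ab X) (hF : EtCoh.IsTorsion F) (q : ℕ)
    (hq : 2 * n < q) : IsZero ((EtCoh.Rpush f q).obj F) := by
  refine isZero_of_geomPt_stalks _ fun y => ?_
  let R := HenselLib.SH (Y.presheaf.stalk y)
  have hS : Hensel.IsStrictHenselization (Y.presheaf.stalk y) R := inferInstance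
  haveI : IsSepClosed (IsLocalRing.ResidueField R) := hS.isSepClosure.sep_closed
  refine ⟨R, inferInstance, inferInstance, inferInstance, inferInstance, inferInstance, ?_⟩
  obtain ⟨es⟩ := nonempty_stalk_iso f (Hens2.geomPt Y y R) F hF q
  exact es.addCommGroupIsoToAddEquiv.toEquiv.subsingleton_congr.2
    (cdBound n (IsLocalRing.ResidueField R) _ (pullback.snd f (Hens2.geomPt Y y R))
      ((dim_pullback_point f _).trans_le (hdim _)) _ (CdCurveLib.isTorsion_pull_map _ hF) q hq)

end EtPBCCdLib

end
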