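import Groth.Agent.FibDimLib.ClosureDim
import Groth.Agent.FibDimLib.FibreJumps
import Groth.Agent.FibDimLib.FieldExt

/-!
# Dimensions of fibres over curves and of geometric fibres
-/

set_option autoImplicit false
set_option linter.all false
set_option maxHeartbeats 1000000

universe u

open CategoryTheory CategoryTheory.Limits AlgebraicGeometry TopologicalSpace Topology

noncomputable section

namespace EtPBCCdLib

theorem quasiSober_closure {X : Scheme.{u}} (T : Set X) : QuasiSober ↥(closure T) :=
  isClosed_closure.isClosedEmbedding_subtypeVal.quasiSober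

/-- A point other than the generic one has a closure of smaller dimension. -/
theorem succ_le_of_ne_genericPoint {X : Scheme.{u}} [IrreducibleSpace X] (x : X) (hx : x ≠ genericPoint X)
    {d r : ℕ} (hd : topologicalKrullDim X ≤ d) (hr : (r : WithBot ℕ∞) ≤ topologicalKrullDim (closure ({x} : Set X))) :
    r + 1 ≤ d := by
  haveI := quasiSober_closure ({x} : Set X)
  obtain ⟨c, hinj, hc⟩ := FibDimLib.exists_specChain hr
  have hne : ∀ i, (c i : X) ≠ genericPoint X := fun i h => hx
    (Specializes.antisymm (h ▸ specializes_iff_mem_closure.2 (c i).2) ((genericPoint_spec X).specializes trivial)).eq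
  have h : FibDimLib.IsSpecChain (Fin.cons (genericPoint X) fun i => (c i : X) : Fin (r + 1 + 1) → X) := by
    refine ⟨Fin.cons_injective_iff.2 ⟨fun ⟨i, hi⟩ => hne i hi, Subtype.val_injective.comp hinj⟩, fun i j hij => ?_⟩
    induction i using Fin.cases with
    | zero => exact (genericPoint_spec X).specializes trivial
    | succ i =>
      induction j using Fin.cases with
      | zero => exact absurd hij (not_le.2 i.succ_pos)
      | succ j =>
        simp only [Fin.cons_succ]
        exact (subtype_specializes_iff _ _).1 (hc i j (Fin.succ_le_succ_iff.1 hij))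
  exact_mod_cast h.le_topologicalKrullDim.trans hd

theorem zero_le_dim_closure {X : Scheme.{u}} (x : X) : (0 : WithBot ℕ∞) ≤ topologicalKrullDim (closure ({x} : Set X)) := by
  haveI := quasiSober_closure ({x} : Set X)
  have h : FibDimLib.IsSpecChain (fun _ : Fin (0 + 1) => (⟨x, subset_closure rfl⟩ : closure ({x} : Set X))) :=
    ⟨fun i j _ => Fin.ext (by omega), fun i j _ => specializes_rfl⟩
  exact_mod_cast h.le_topologicalKrullDim

/-- The fibres of a nonconstant morphism from an irreducible scheme are smaller. -/
theorem fibre_dim_le {k : Type u} [Field k] {X P : Scheme.{u}} (p : P ⟶ Spec (CommRingCat.of k))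
    [LocallyOfFiniteType p] (q : X ⟶ P) [LocallyOfFiniteType q] [IrreducibleSpace X] {d : ℕ}
    (hd : topologicalKrullDim X ≤ ((d + 1 : ℕ) : WithBot ℕ∞)) (u : X) (hu : q.base u ≠ q.base (genericPoint X)) (y : P) :
    topologicalKrullDim (q.fiber y) ≤ d := by
  refine FibDimLib.le_of_forall_nat_le fun r hr => ?_
  obtain ⟨x, hxy, hxr⟩ := FibDimLib.exists_fibreDimAt_ge q y hr
  have he := FibDimLib.topologicalKrullDim_closure_eq_add p q x
  suffices r ≤ d by exact_mod_cast this
  by_cases hx : x = genericPoint X
  · subst hx
    haveI := quasiSober_closure ({q.base (genericPoint X)} : Set P)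
    have hsp : q.base (genericPoint X) ⤳ q.base u := ((genericPoint_spec X).specializes trivial).map q.continuous
    let c : Fin (1 + 1) → closure ({q.base (genericPoint X)} : Set P) :=
      ![⟨_, subset_closure rfl⟩, ⟨_, hsp.mem_closure⟩]
    have hc : FibDimLib.IsSpecChain c := by
      refine ⟨fun i j h => ?_, fun i j h => ?_⟩
      · fin_cases i <;> fin_cases j <;> simp [c, Subtype.ext_iff] at h ⊢
        · exact hu h.symm
        · exact hu h
      · refine (subtype_specializes_iff _ _).2 ?_
        fin_cases i <;> fin_cases j
        · exact specializes_rfl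
        · exact hsp
        · exact absurd h (by decide)
        · exact specializes_rfl
    have h1 : ((1 + r : ℕ) : WithBot ℕ∞) ≤ ((d + 1 : ℕ) : WithBot ℕ∞) := by
      refine le_trans ?_ ((topologicalKrullDim_subspace_le X (closure ({genericPoint X} : Set X))).trans hd)
      rw [he, Nat.cast_add]
      exact add_le_add hc.le_topologicalKrullDim hxr
    have : 1 + r ≤ d + 1 := by exact_mod_cast h1
    omega
  · have h1 : (r : WithBot ℕ∞) ≤ topologicalKrullDim (closure ({x} : Set X)) := by
      rw [he, ← zero_add (r : WithBot ℕ∞)]
      exact add_le_add (zero_le_dim_closure _) hxr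
    have := succ_le_of_ne_genericPoint x hx hd h1
    omega

/-- The dimension of a fibre at a point with values in a field. -/
theorem dim_pullback_point {X Y : Scheme.{u}} (f : X ⟶ Y) [LocallyOfFiniteType f] {Ω : Type u} [Field Ω]
    (ξ : Spec (CommRingCat.of Ω) ⟶ Y) :
    topologicalKrullDim ↥(pullback f ξ) = topologicalKrullDim (f.fiber (ξ.base default)) := by
  rw [← FibDimLib.topologicalKrullDim_fiber_baseChange (IsPullback.of_hasPullback f ξ) default]
  let g := pullback.snd f ξ
  refine IsHomeomorph.topologicalKrullDim_eq _ (((Homeomorph.Set.univ ↥(pullback f ξ)).symm.trans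
    (Homeomorph.setCongr (Set.eq_univ_of_forall fun z => ?_).symm)).trans (g.fiberHomeo default).symm).isHomeomorph
  exact Subsingleton.elim (α := PrimeSpectrum Ω) _ _

end EtPBCCdLib

end
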