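import Groth.Agent.EtPBCCdLib.OpenSquare
import Groth.Agent.EtPBCProperLib.Shriek
import Groth.Agent.EtPBCProperLib.BigSite
import Groth.Agent.ShriekBCLib.Main
import Groth.Agent.SkySumLib.Cohom
import Mathlib.AlgebraicGeometry.ZariskisMainTheorem

/-!
# Proper direct images and direct images with proper support along locally quasi-finite morphisms
-/

set_option autoImplicit false
set_option linter.all false
set_option backward.isDefEq.respectTransparency false
set_option backward.isDefEq.respectTransparency.types false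
set_option maxHeartbeats 1000000
set_option synthInstance.maxHeartbeats 400000

universe u

open CategoryTheory CategoryTheory.Limits CategoryTheory.Abelian AlgebraicGeometry Opposite TopologicalSpace
open Groth.Agent Groth.Agent.EtShLib EtPBCProperLib

attribute [local instance] EtSliceLib.pullExact CategoryTheory.Abelian.hasFiniteBiproducts

noncomputable section

namespace EtPBCCdLib

/-- A locally quasi-finite separated scheme over a separably closed field with one point has no higher cohomology. -/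
theorem subsingleton_H_point {Ω : Type u} [Field Ω] [IsSepClosed Ω] {S : Scheme.{u}} (ω : S ⟶ Spec (CommRingCat.of Ω))
    [IsFinite ω] (G : EtCoh.Ab S) (q : ℕ) (hq : 0 < q) : Subsingleton (EtCoh.H S G q) := by
  haveI := SkySumLib.isSepClosed_residueField_self Ω
  haveI : Subsingleton (EtCoh.H (Spec (CommRingCat.of Ω)) ((EtCoh.push ω).obj G) q) :=
    Groth.Agent.S0073.result Ω _ q hq
  exact (Groth.Agent.S14451.result ω G (fun p hp => isZero_rightDerived_push_finite ω G p hp) q).2.subsingleton

theorem subsingleton_H_of_push {S T : Scheme.{u}} (c : S ⟶ T) (G : EtCoh.Ab S)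
    (hR : ∀ p : ℕ, 0 < p → IsZero ((EtCoh.Rpush c p).obj G)) (q : ℕ)
    [Subsingleton (EtCoh.H T ((EtCoh.push c).obj G) q)] : Subsingleton (EtCoh.H S G q) :=
  (Groth.Agent.S14451.result c G hR q).2.subsingleton

theorem subsingleton_H_push_finite {S T : Scheme.{u}} (k : S ⟶ T) [IsFinite k] (G : EtCoh.Ab S) (q : ℕ)
    [Subsingleton (EtCoh.H S G q)] : Subsingleton (EtCoh.H T ((EtCoh.push k).obj G) q) :=
  (Groth.Agent.S14451.result k G (fun p hp => isZero_rightDerived_push_finite k G p hp) q).1.subsingleton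

theorem subsingleton_H_sigma {X : Scheme.{u}} [CompactSpace X] [QuasiSeparatedSpace X] {ι : Type u} (F : ι → EtCoh.Ab X)
    (q : ℕ) (h : ∀ i, Subsingleton (EtCoh.H X (F i) q)) : Subsingleton (EtCoh.H X (∐ F) q) := by
  refine subsingleton_of_forall_eq 0 fun z => ?_
  obtain ⟨S, w, hw⟩ := DivSeqLib.exists_sum_of_coprod F q z
  refine hw.trans (Finset.sum_eq_zero fun i _ => ?_)
  haveI := h (w i).1
  rw [Subsingleton.elim (w i).2 0, Ext.zero_comp]

variable {X X' Y Y' : Scheme.{u}} (f : X ⟶ Y) [IsProper f] (g : Y' ⟶ Y) [IsSeparated g] [LocallyOfFiniteType g]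
  [LocallyQuasiFinite g] (f' : X' ⟶ Y') [IsProper f'] (g' : X' ⟶ X) [IsSeparated g'] [LocallyOfFiniteType g']
  [LocallyQuasiFinite g'] (w : g' ≫ f = f' ≫ g)

include w in
theorem subsingleton_H_lowerShriek_tor_fibre (J : EtCoh.Ab X') [Injective J] {Ω : Type u} [Field Ω] [IsSepClosed Ω]
    (ξ : Spec (CommRingCat.of Ω) ⟶ Y) (q : ℕ) (hq : 0 < q) :
    Subsingleton (EtCoh.H (pullback f ξ) ((EtCoh.pull (pullback.fst f ξ)).obj ((EtShriek.lowerShriek g').obj (tor J))) q) := by
  classical
  let a := pullback.fst f ξ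
  let b := pullback.snd f ξ
  haveI : CompactSpace ↥(pullback f ξ) := QuasiCompact.compactSpace_of_compactSpace b
  haveI : QuasiSeparatedSpace ↥(pullback f ξ) := quasiSeparatedSpace_of_quasiSeparated b
  let a' := pullback.fst g' a
  let g'' := pullback.snd g' a
  have hsq : IsPullback a' g'' g' a := IsPullback.of_hasPullback g' a
  let c : pullback g' a ⟶ pullback g ξ := pullback.lift (a' ≫ f') (g'' ≫ b) (by
    rw [Category.assoc, ← w, reassoc_of% hsq.w, show a ≫ f = b ≫ ξ from pullback.condition, Category.assoc])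
  have hcf : c ≫ pullback.fst g ξ = a' ≫ f' := pullback.lift_fst _ _ _
  have hcs : c ≫ pullback.snd g ξ = g'' ≫ b := pullback.lift_snd _ _ _
  have hc' : IsPullback a' c f' (pullback.fst g ξ) := by
    have hbig := hsq.paste_vert (IsPullback.of_hasPullback f ξ)
    refine IsPullback.of_bot ?_ hcf.symm (IsPullback.of_hasPullback g ξ)
    rw [hcs, ← w]
    exact hbig
  haveI : DiscreteTopology ↥(pullback g ξ) := by
    let s := pullback.snd g ξ
    have h1 : _root_.IsDiscrete (s.base ⁻¹' {default}) := s.isDiscrete_preimage_singleton default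
    rw [show s.base ⁻¹' {default} = Set.univ from Set.eq_univ_of_forall fun p => Subsingleton.elim (α := PrimeSpectrum Ω) _ _] at h1
    haveI := h1.to_subtype
    exact (Homeomorph.Set.univ ↥(pullback g ξ)).symm.isEmbedding.discreteTopology
  let U : ↥(pullback g ξ) → (pullback g ξ).Opens := fun z => ⟨{z}, isOpen_discrete _⟩
  let Z : ↥(pullback g ξ) → (pullback g' a).Opens := fun z => c ⁻¹ᵁ U z
  let T := (EtCoh.pull a').obj (tor J)
  -- the pieces
  have hT : ∀ z, Subsingleton (EtCoh.H (Z z).toScheme ((EtCoh.pull (Z z).ι).obj T) q) := fun z => by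
    haveI : CompactSpace ↥(U z).toScheme := isCompact_iff_compactSpace.1 isCompact_singleton
    haveI : QuasiCompact ((U z).ι ≫ pullback.snd g ξ) := inferInstance
    haveI : IsFinite ((U z).ι ≫ pullback.snd g ξ) := IsFinite.of_locallyQuasiFinite _
    let e : (EtCoh.pull (Z z).ι).obj T ≅ (EtCoh.pull ((Z z).ι ≫ a')).obj (tor J) :=
      ((EtCore.pullComp (Z z).ι a').symm).app (tor J)
    haveI := subsingleton_H_point ((U z).ι ≫ pullback.snd g ξ) ((EtCoh.push (c ∣_ U z)).obj ((EtCoh.pull (Z z).ι).obj T)) q hq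
    refine subsingleton_H_of_push (c ∣_ U z) _ (fun p hp => ?_) q
    exact (isZero_Rpush_pull_tor f' ((U z).ι ≫ pullback.fst g ξ) ((Z z).ι ≫ a') (c ∣_ U z)
      ((isPullback_morphismRestrict c (U z)).flip.paste_horiz hc') J p hp).of_iso ((EtCoh.Rpush (c ∣_ U z) p).mapIso e)
  -- the decomposition
  let G : ↥(pullback g ξ) → EtCoh.Ab (pullback g' a) := fun z =>
    (EtShriek.extZero (Z z).ι).obj ((EtShriek.restrAlong (Z z).ι).obj T)
  let φ : ∐ G ⟶ T := Sigma.desc fun z => (EtShriek.extZeroAdj (Z z).ι).counit.app T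
  haveI : IsIso φ := isIso_of_stalks (A := AddCommGrpCat.{u + 1}) φ fun Ω₁ _ _ η => by
    let S := stk (A := AddCommGrpCat.{u + 1}) η
    let z₀ := c.base (η.base default)
    have hmem : η.base default ∈ Set.range (Z z₀).ι.base := by
      rw [Scheme.Opens.range_ι]
      exact rfl
    haveI hi : IsIso (S.map ((EtShriek.extZeroAdj (Z z₀).ι).counit.app T)) := isIso_counit_stalk (Z z₀).ι T η hmem
    haveI : PreservesColimitsOfSize.{u, u} S := preservesColimitsOfSize_shrink.{u, u + 1, u, u + 1} S
    have hz : ∀ z, z ≠ z₀ → IsZero (S.obj (G z)) := fun z hne => by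
      refine isZero_stalk_extZero (Z z).ι _ η fun h => hne ?_
      rw [Scheme.Opens.range_ι] at h
      exact (show z₀ = z from h).symm
    have e₁ : S.map (Sigma.ι G z₀) ≫ S.map φ = S.map ((EtShriek.extZeroAdj (Z z₀).ι).counit.app T) :=
      (S.map_comp _ _).symm.trans (congrArg S.map (Sigma.ι_desc _ _))
    refine ⟨inv (S.map ((EtShriek.extZeroAdj (Z z₀).ι).counit.app T)) ≫ S.map (Sigma.ι G z₀), ?_, ?_⟩
    · refine (isColimitOfPreserves S (coproductIsCoproduct G)).hom_ext fun ⟨z⟩ => ?_
      show S.map (Sigma.ι G z) ≫ _ = S.map (Sigma.ι G z) ≫ _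
      by_cases hne : z = z₀
      · subst hne
        rw [← Category.assoc, e₁, IsIso.hom_inv_id_assoc, Category.comp_id]
      · exact (hz z hne).eq_of_src _ _
    · rw [Category.assoc, e₁, IsIso.inv_hom_id]
  haveI := preservesColimits_lowerShriek g''
  haveI : PreservesColimitsOfSize.{u, u} (EtShriek.lowerShriek g'') :=
    preservesColimitsOfSize_shrink.{u, u + 1, u, u + 1} _
  obtain ⟨eb⟩ := ShriekBCLib.nonempty_iso hsq (tor J)
  let L := fun z => (EtShriek.lowerShriek g'').obj (G z)
  let E : (EtCoh.pull a).obj ((EtShriek.lowerShriek g').obj (tor J)) ≅ ∐ L :=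
    (EtCoh.pull a).mapIso ((lowerShriekIso g').app (tor J)) ≪≫ eb.symm ≪≫ ((lowerShriekIso g'').app T).symm ≪≫
      (EtShriek.lowerShriek g'').mapIso (asIso φ).symm ≪≫ PreservesCoproduct.iso (EtShriek.lowerShriek g'') G
  haveI : Subsingleton (EtCoh.H (pullback f ξ) (∐ L) q) := subsingleton_H_sigma L q fun z => by
    haveI : CompactSpace ↥(U z).toScheme := isCompact_iff_compactSpace.1 isCompact_singleton
    haveI : IsFinite ((U z).ι ≫ pullback.snd g ξ) := IsFinite.of_locallyQuasiFinite _
    haveI : IsProper c := MorphismProperty.of_isPullback hc' inferInstance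
    haveI : IsProper (c ∣_ U z) := MorphismProperty.of_isPullback (P := @IsProper) (isPullback_morphismRestrict c (U z)).flip inferInstance
    let k := (Z z).ι ≫ g''
    have hkb : k ≫ b = (c ∣_ U z) ≫ (U z).ι ≫ pullback.snd g ξ := by
      rw [morphismRestrict_ι_assoc, hcs, Category.assoc]
    haveI : IsProper (k ≫ b) := by rw [hkb]; infer_instance
    haveI : IsProper k := IsProper.of_comp k b
    haveI : LocallyQuasiFinite k := inferInstance
    haveI : IsFinite k := IsFinite.of_isProper_of_locallyQuasiFinite k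
    obtain ⟨e2⟩ := Groth.Agent.S0685.result (Z z).ι g''
    haveI := isIso_preι_of_proper k
    obtain ⟨er⟩ := nonempty_pull_iso_restrAlong (Z z).ι T
    let eL : L z ≅ (EtCoh.push k).obj ((EtCoh.pull (Z z).ι).obj T) :=
      (EtShriek.lowerShriek g'').mapIso ((extZeroPreIso (Z z).ι ≪≫ (lowerShriekIso (Z z).ι).symm).app _) ≪≫
        e2.symm.app _ ≪≫ (lowerShriekIso k ≪≫ asIso (preι k)).app _ ≪≫ (EtCoh.push k).mapIso er.symm
    haveI := hT z
    haveI := subsingleton_H_push_finite k ((EtCoh.pull (Z z).ι).obj T) q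
    exact ((EtCoh.HF (pullback f ξ) q).mapIso eL).addCommGroupIsoToAddEquiv.toEquiv.subsingleton_congr.2 ‹_›
  exact ((EtCoh.HF (pullback f ξ) q).mapIso E).addCommGroupIsoToAddEquiv.toEquiv.subsingleton_congr.2 ‹_›

include w in
theorem isZero_Rpush_lowerShriek_tor (J : EtCoh.Ab X') [Injective J] (q : ℕ) (hq : 0 < q) :
    IsZero ((EtCoh.Rpush f q).obj ((EtShriek.lowerShriek g').obj (tor J))) := by
  refine isZero_of_geomPt_stalks _ fun y => ?_
  let R := HenselLib.SH (Y.presheaf.stalk y)
  have hS : Hensel.IsStrictHenselization (Y.presheaf.stalk y) R := inferInstance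
  haveI := hS.henselian
  haveI : IsSepClosed (IsLocalRing.ResidueField R) := hS.isSepClosure.sep_closed
  refine ⟨R, inferInstance, inferInstance, inferInstance, inferInstance, inferInstance, ?_⟩
  obtain ⟨e⟩ := nonempty_stalk_iso f (Hens2.geomPt Y y R) _ (isTorsion_lowerShriek g' _ (isTorsion_tor J)) q
  exact e.addCommGroupIsoToAddEquiv.toEquiv.subsingleton_congr.2
    (subsingleton_H_lowerShriek_tor_fibre f g f' g' w J (Hens2.geomPt Y y R) q hq)

include w in
/-- Direct images with proper support commute with proper direct images. -/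
theorem nonempty_lowerShriek_Rpush_iso (F : EtCoh.Ab X') (hF : EtCoh.IsTorsion F) (q : ℕ) :
    Nonempty ((EtShriek.lowerShriek g).obj ((EtCoh.Rpush f' q).obj F) ≅
      (EtCoh.Rpush f q).obj ((EtShriek.lowerShriek g').obj F)) := by
  haveI := preservesFiniteLimits_lowerShriek g'
  haveI := preservesFiniteColimits_lowerShriek g'
  haveI := preservesFiniteLimits_lowerShriek g
  haveI := preservesFiniteColimits_lowerShriek g
  haveI : (EtShriek.lowerShriek g).Additive := Functor.additive_of_preserves_binary_products _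
  haveI : PreservesLimitsOfSize.{0, 0} (EtCoh.push f') := (EtCoh.pullPushAdj f').rightAdjoint_preservesLimits
  haveI : PreservesFiniteLimits (EtCoh.push f') := PreservesLimitsOfSize.preservesFiniteLimits _
  haveI : PreservesLimitsOfSize.{0, 0} (EtCoh.push f) := (EtCoh.pullPushAdj f).rightAdjoint_preservesLimits
  haveI : PreservesFiniteLimits (EtCoh.push f) := PreservesLimitsOfSize.preservesFiniteLimits _
  haveI : (EtCoh.push f).Additive := { }
  haveI : (EtCoh.push f').Additive := { }
  haveI := isIso_preι_of_proper f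
  haveI := isIso_preι_of_proper f'
  obtain ⟨e₁⟩ := Groth.Agent.S0685.result g' f
  obtain ⟨e₂⟩ := Groth.Agent.S0685.result f' g
  rw [w] at e₁
  let pf : EtShriek.lowerShriek f ≅ EtCoh.push f := lowerShriekIso f ≪≫ asIso (preι f)
  let pf' : EtShriek.lowerShriek f' ≅ EtCoh.push f' := lowerShriekIso f' ≪≫ asIso (preι f')
  exact nonempty_rightDerived_comm (EtCoh.push f') (EtCoh.push f) (EtShriek.lowerShriek g') (EtShriek.lowerShriek g)
    (Functor.isoWhiskerRight pf'.symm _ ≪≫ e₂.symm ≪≫ e₁ ≪≫ Functor.isoWhiskerLeft _ pf)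
    EtCoh.IsTorsion (fun F hF => by
      obtain ⟨J, hJ, m, hm⟩ := exists_mono_tor hF
      haveI := hJ
      exact ⟨tor J, m, hm, isTorsion_cokernel m (isTorsion_tor J), fun p hp => isZero_Rpush_tor f' J p hp,
        fun p hp => isZero_Rpush_lowerShriek_tor f g f' g' w J p hp⟩) q F hF

end EtPBCCdLib

end
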