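import Groth.Agent.EtPBCCdLib.Compactified
import Groth.Agent.EtBcBridgeLib.Main
import Groth.Agent.DerLib.KInjTriangulated
import Groth.Agent.Dual3Lib.ExtInjDim
import Groth.Agent.S3389

/-!
# Bounds on compactified direct images in the derived category
-/

set_option autoImplicit false
set_option linter.all false
set_option backward.isDefEq.respectTransparency false
set_option backward.isDefEq.respectTransparency.types false
set_option maxHeartbeats 1000000
set_option synthInstance.maxHeartbeats 400000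

universe w v u v' u'

open CategoryTheory CategoryTheory.Limits CategoryTheory.Pretriangulated AlgebraicGeometry DerivedCategory
open Groth.Agent Groth.Agent.EtShLib

noncomputable section

namespace EtPBCCdLib

/-- A bound on a triangulated functor from bounds on the objects concentrated in degree zero. -/
theorem isZero_homology_of_singles {A : Type u} [Category.{v} A] [Abelian A] [HasDerivedCategory.{w} A]
    {B : Type u} [Category.{v} B] [Abelian B] [HasDerivedCategory.{w} B]
    (Φ : DerivedCategory A ⥤ DerivedCategory B) [Φ.CommShift ℤ] [Φ.IsTriangulated] (p : A → Prop) (N : ℕ)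
    (h : ∀ M, p M → ∀ i : ℤ, i < 0 ∨ (N : ℤ) < i →
      IsZero ((homologyFunctor B i).obj (Φ.obj ((singleFunctor A 0).obj M))))
    (E : DerivedCategory A) (hE : ∀ n, p ((homologyFunctor A n).obj E)) (a b : ℤ) [E.IsGE a] [E.IsLE b] (i : ℤ)
    (hi : i < a ∨ b + N < i) : IsZero ((homologyFunctor B i).obj (Φ.obj E)) := by
  by_cases hab : b < a
  · exact (homologyFunctor B i).map_isZero (Φ.map_isZero (TStructure.t.isZero E b a hab))
  obtain ⟨k, hk⟩ := Int.le.dest (not_lt.1 hab)
  haveI : E.IsLE (a + k) := hk.symm ▸ inferInstance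
  refine Groth.Agent.Dual3Lib.prop_of_bounded (fun K => ∀ i : ℤ, i < a ∨ b + N < i → IsZero ((homologyFunctor B i).obj (Φ.obj K)))
    (fun e hA i hi => (hA i hi).of_iso ((homologyFunctor B i).mapIso (Φ.mapIso e.symm)))
    (fun T hT h₁ h₃ i hi => (DerivedCategory.HomologySequence.exact₂ _ (Φ.map_distinguished T hT) i).isZero_X₂
      ((h₁ i hi).eq_of_src _ _) ((h₃ i hi).eq_of_tgt _ _))
    (fun hA i _ => (homologyFunctor B i).map_isZero (Φ.map_isZero hA)) a k E (fun q hq hq' i hi => ?_) i hi
  let M := (homologyFunctor A q).obj E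
  let e₁ : (singleFunctor A q).obj M ≅ ((singleFunctor A 0).obj M)⟦-q⟧ :=
    (((singleFunctors A).shiftIso (-q) q 0 (by omega)).app M).symm
  exact (h M (hE q) (i - q) (by omega)).of_iso ((homologyFunctor B i).mapIso (Φ.mapIso e₁ ≪≫
      (Φ.commShiftIso (-q)).app _) ≪≫
    (((homologyFunctor B 0).shiftIso (-q) i (i - q) (by omega)).app (Φ.obj ((singleFunctor A 0).obj M))))

section
attribute [local instance] HasDerivedCategory.standard

theorem exists_bound_Rshriek {X Y : Scheme.{u}} [CompactSpace ↥Y]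
    (f : X ⟶ Y) [LocallyOfFiniteType f] [QuasiCompact f] (c : DEt.Compactification f)
    [PreservesFiniteLimits (EtShriek.extZero c.j)] [DCoh.HasRpushEt c.Xbar c.fbar] :
    ∃ N : ℕ, ∀ (E : DCoh.DEt X), (∀ n : ℤ, EtCoh.IsTorsion (DCoh.HDEt E n)) → ∀ a b : ℤ,
      (∀ i : ℤ, i < a ∨ b < i → IsZero (DCoh.HDEt E i)) →
        ∀ i : ℤ, i < a ∨ b + N < i → IsZero (DCoh.HDEt ((DEt.Rshriek c).obj E) i) := by
  obtain ⟨d, hd⟩ := Groth.Agent.S3389.result f
  refine ⟨2 * d, fun E hE a b hab i hi => ?_⟩
  haveI : PreservesFiniteColimits (EtShriek.extZero c.j) := by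
    haveI : (EtShriek.extZero c.j).IsLeftAdjoint := (EtShriek.extZeroAdj c.j).isLeftAdjoint
    infer_instance
  obtain ⟨_, _⟩ := Groth.Agent.DerLib.KInjDerived.exists_isTriangulated_map (EtBcDLib.enough c.Xbar) (EtCoh.push c.fbar)
    (DCoh.RpushEt c.Xbar c.fbar)
    ((DCoh.pushEtKh c.Xbar c.fbar).totalRightDerivedUnit DerivedCategory.Qh
      (HomotopyCategory.quasiIso (EtCoh.Ab c.Xbar) (ComplexShape.up ℤ)))
  letI : (DEt.extZeroD c.j).CommShift ℤ := inferInstanceAs ((EtShriek.extZero c.j).mapDerivedCategory.CommShift ℤ)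
  haveI : (DEt.extZeroD c.j).IsTriangulated := inferInstanceAs ((EtShriek.extZero c.j).mapDerivedCategory.IsTriangulated)
  haveI : E.IsGE a := (isGE_iff E a).2 fun i hi => hab i (Or.inl hi)
  haveI : E.IsLE b := (isLE_iff E b).2 fun i hi => hab i (Or.inr hi)
  refine isZero_homology_of_singles (DEt.Rshriek c) EtCoh.IsTorsion (2 * d) (fun M hM j hj => ?_) E hE a b i hi
  let G := (EtShriek.extZero c.j).obj M
  let e₀ : (DEt.extZeroD c.j).obj ((singleFunctor (EtCoh.Ab X) 0).obj M) ≅ EtBC.single c.Xbar G :=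
    ((EtShriek.extZero c.j).mapDerivedCategorySingleFunctor 0).app M
  let H := (homologyFunctor (EtCoh.Ab Y) j).mapIso ((DCoh.RpushEt c.Xbar c.fbar).mapIso e₀)
  rcases hj with h | h
  · exact (EtBcBridgeLib.isZero_homology_rpush_single c.fbar G j h).of_iso H
  · obtain ⟨q, rfl⟩ := Int.eq_ofNat_of_zero_le (show (0 : ℤ) ≤ j by omega)
    obtain ⟨e⟩ := EtBcDLib.nonempty_homology_rpush_single c.fbar G q
    exact (isZero_Rpush_extZero c.j c.fbar d (fun s => by rw [c.fac]; exact hd s) M hM q (by omega)).of_iso (H ≪≫ e)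

end

end EtPBCCdLib

end
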