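import Groth.Agent.EtPBCCdLib.Main

/-!
# Vanishing of compactified direct images above twice the dimension of the fibres
-/

set_option autoImplicit false
set_option linter.all false
set_option backward.isDefEq.respectTransparency false
set_option backward.isDefEq.respectTransparency.types false
set_option maxHeartbeats 1000000
set_option synthInstance.maxHeartbeats 400000

universe u

open CategoryTheory CategoryTheory.Limits CategoryTheory.Abelian AlgebraicGeometry Opposite TopologicalSpace
open Groth.Agent Groth.Agent.EtShLib EtPBCProperLib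

attribute [local instance] EtSliceLib.pullExact

noncomputable section

namespace EtPBCCdLib

/-- Vanishing on a proper scheme over a separably closed field of a sheaf supported in an open of dimension `≤ d`. -/
theorem subsingleton_H_of_open_support {d : ℕ} {k : Type u} [Field k] [IsSepClosed k] {P : Scheme.{u}}
    (b : P ⟶ Spec (CommRingCat.of k)) [IsProper b] (U : P.Opens) (hU : topologicalKrullDim (U : Set P) ≤ d)
    (G : EtCoh.Ab P) (hG : EtCoh.IsTorsion G)
    (hsupp : ∀ (Ω : Type u) [Field Ω] [IsSepClosed Ω] (ξ : Spec (CommRingCat.of Ω) ⟶ P),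
      ξ.base default ∉ (U : Set P) → IsZero ((stk (A := AddCommGrpCat.{u + 1}) ξ).obj G))
    (q : ℕ) (hq : 2 * d < q) : Subsingleton (EtCoh.H P G q) := by
  let T : Closeds P := ⟨closure (U : Set P), isClosed_closure⟩
  let I := Scheme.IdealSheafData.vanishingIdeal T
  let i := I.subschemeι
  have hr : Set.range i.base = closure (U : Set P) :=
    I.range_subschemeι.trans (Scheme.IdealSheafData.coe_support_vanishingIdeal T)
  refine subsingleton_H_of_supported i G (fun Ω _ _ ξ h => hsupp Ω ξ fun h' => h (hr.ge (subset_closure h'))) q ?_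
  haveI : IsProper (i ≫ b) := inferInstance
  haveI : IsLocallyNoetherian I.subscheme := LocallyOfFiniteType.isLocallyNoetherian (i ≫ b)
  haveI : CompactSpace I.subscheme := QuasiCompact.compactSpace_of_compactSpace (i ≫ b)
  haveI : AlgebraicGeometry.IsNoetherian I.subscheme := { }
  refine cdBound d k I.subscheme (i ≫ b) ?_ _ (CdCurveLib.isTorsion_pull_map i hG) q hq
  let V : I.subscheme.Opens := i ⁻¹ᵁ U
  refine FibDimLib.topologicalKrullDim_le_of_generic fun z hz => ?_
  have hzV : z ∈ V := by
    obtain ⟨o, ho, ⟨w, hw⟩, hoz⟩ := NoetherianSpace.exists_isOpen_nonempty_subset_irreducibleComponent _ hz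
    obtain ⟨o', ho', rfl⟩ := i.isEmbedding.isInducing.isOpen_iff.1 ho
    obtain ⟨_, hxo, hxU⟩ := mem_closure_iff.1 (hr.le ⟨w, rfl⟩) o' ho' hw
    obtain ⟨v, rfl⟩ := hr.ge (subset_closure hxU)
    exact (specializes_iff_mem_closure.2 (hoz hxo)).mem_open V.2 hxU
  haveI : LocallyOfFiniteType (Over.mk (i ≫ b)).hom := inferInstanceAs (LocallyOfFiniteType (i ≫ b))
  rw [← FibDimLib.topologicalKrullDim_closure_open (Over.mk (i ≫ b)) V ⟨z, hzV⟩]
  refine ((topologicalKrullDim_subspace_le _ _).trans ?_).trans hU
  exact (((i.isEmbedding.isInducing.comp Topology.IsInducing.subtypeVal).codRestrict (fun w => w.2)) :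
    Topology.IsInducing (Set.codRestrict (fun w : (V : Set I.subscheme) => i.base w.1) (U : Set P) fun w => w.2)).topologicalKrullDim_le

/-- Direct images of extensions by zero along a compactification vanish above twice the fibre dimension. -/
theorem isZero_Rpush_extZero {X P S : Scheme.{u}} (j : X ⟶ P) [IsOpenImmersion j] (p : P ⟶ S) [IsProper p] (d : ℕ)
    (hdim : ∀ s : S, topologicalKrullDim ((j ≫ p).fiber s) ≤ d) (F : EtCoh.Ab X) (hF : EtCoh.IsTorsion F) (q : ℕ)
    (hq : 2 * d < q) : IsZero ((EtCoh.Rpush p q).obj ((EtShriek.extZero j).obj F)) := by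
  have hG : EtCoh.IsTorsion ((EtShriek.extZero j).obj F) :=
    Groth.Agent.EtShLib.isTorsion_of_iso ((extZeroPreIso j ≪≫ (lowerShriekIso j).symm).app F).symm
      (isTorsion_lowerShriek j F hF)
  refine isZero_of_geomPt_stalks _ fun y => ?_
  let R := HenselLib.SH (S.presheaf.stalk y)
  have hS : Hensel.IsStrictHenselization (S.presheaf.stalk y) R := inferInstance
  haveI : IsSepClosed (IsLocalRing.ResidueField R) := hS.isSepClosure.sep_closed
  refine ⟨R, inferInstance, inferInstance, inferInstance, inferInstance, inferInstance, ?_⟩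
  let ξ := Hens2.geomPt S y R
  obtain ⟨es⟩ := nonempty_stalk_iso p ξ _ hG q
  refine es.addCommGroupIsoToAddEquiv.toEquiv.subsingleton_congr.2 ?_
  let a := pullback.fst p ξ
  let b := pullback.snd p ξ
  refine subsingleton_H_of_open_support b (a ⁻¹ᵁ j.opensRange) ?_ _ (CdCurveLib.isTorsion_pull_map a hG)
    (fun Ω _ _ η hη => IsZero.of_iso (isZero_stalk_extZero j F (η ≫ a) fun h => hη h)
      ((stalkPull a η AddCommGrpCat.{u + 1}).app _).symm) q hq
  have hpb : IsPullback (pullback.snd a j) (pullback.fst a j ≫ b) (j ≫ p) ξ :=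
    (IsPullback.of_hasPullback a j).flip.paste_vert (IsPullback.of_hasPullback p ξ)
  have hh : topologicalKrullDim ↥(pullback a j) ≤ d := by
    rw [IsHomeomorph.topologicalKrullDim_eq _ hpb.isoPullback.hom.homeomorph.isHomeomorph]
    exact (dim_pullback_point (j ≫ p) ξ).trans_le (hdim _)
  refine le_trans ?_ hh
  haveI : IsOpenImmersion (pullback.fst a j) := inferInstance
  refine ((Homeomorph.setCongr ?_).trans (pullback.fst a j).isOpenEmbedding.isEmbedding.toHomeomorph.symm).isInducing.topologicalKrullDim_le
  exact (Scheme.Pullback.range_fst a j).symm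

end EtPBCCdLib

end
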