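import Groth.Agent.EtPBCCdLib.Main
import Groth.Agent.EtShLib.Generate

/-!
# Extension by zero commutes with proper direct images
-/

set_option autoImplicit false
set_option linter.all false
set_option backward.isDefEq.respectTransparency false
set_option backward.isDefEq.respectTransparency.types false
set_option maxHeartbeats 1000000
set_option synthInstance.maxHeartbeats 400000

universe u

open CategoryTheory CategoryTheory.Limits CategoryTheory.Abelian AlgebraicGeometry Opposite TopologicalSpace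
open Groth.Agent Groth.Agent.EtShLib EtPBCProperLib

attribute [local instance] EtSliceLib.pullExact CategoryTheory.Abelian.hasFiniteBiproducts

noncomputable section

namespace EtPBCCdLib

/-- Higher direct images of a direct image along a finite morphism. -/
theorem nonempty_Rpush_comp_finite {U W V : Scheme.{u}} (k : U ⟶ W) [IsFinite k] (h : W ⟶ V) (g : U ⟶ V) (w : k ≫ h = g)
    (F : EtCoh.Ab U) (q : ℕ) :
    Nonempty ((EtCoh.Rpush g q).obj F ≅ (EtCoh.Rpush h q).obj ((EtCoh.push k).obj F)) := by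
  subst w
  haveI : PreservesLimitsOfSize.{0, 0} (EtCoh.push k) := (EtCoh.pullPushAdj k).rightAdjoint_preservesLimits
  haveI : PreservesFiniteLimits (EtCoh.push k) := PreservesLimitsOfSize.preservesFiniteLimits _
  haveI : PreservesLimitsOfSize.{0, 0} (EtCoh.push h) := (EtCoh.pullPushAdj h).rightAdjoint_preservesLimits
  haveI : PreservesFiniteLimits (EtCoh.push h) := PreservesLimitsOfSize.preservesFiniteLimits _
  haveI : PreservesLimitsOfSize.{0, 0} (EtCoh.push (k ≫ h)) := (EtCoh.pullPushAdj (k ≫ h)).rightAdjoint_preservesLimits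
  haveI : PreservesFiniteLimits (EtCoh.push (k ≫ h)) := PreservesLimitsOfSize.preservesFiniteLimits _
  haveI : (EtCoh.push h).Additive := { }
  haveI : (EtCoh.push (k ≫ h)).Additive := { }
  haveI : (EtCoh.push k).Additive := { }
  haveI := preservesHomology_push_finite k
  haveI : PreservesFiniteColimits (EtCoh.push k) := Functor.preservesFiniteColimits_of_preservesHomology _
  haveI : PreservesFiniteLimits (EtCoh.pull k) := inferInstance
  haveI : (EtCoh.pull k).PreservesMonomorphisms := inferInstance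
  obtain ⟨e⟩ := nonempty_rightDerived_comm (EtCoh.push (k ≫ h)) (EtCoh.push h) (EtCoh.push k) (𝟭 _)
    (Functor.rightUnitor _ ≪≫ (EtCoh.pushComp h k).symm) (fun _ => True) (fun F _ => by
      let ip := (EnoughInjectives.presentation F).some
      haveI := ip.injective
      haveI : Injective ((EtCoh.push k).obj ip.J) := (EtCoh.pullPushAdj k).map_injective _ inferInstance
      exact ⟨ip.J, ip.f, inferInstance, trivial,
        fun q hq => by obtain ⟨q', rfl⟩ := Nat.exists_eq_succ_of_ne_zero hq.ne'; exact Functor.isZero_rightDerived_obj_injective_succ _ q' _,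
        fun q hq => by obtain ⟨q', rfl⟩ := Nat.exists_eq_succ_of_ne_zero hq.ne'; exact Functor.isZero_rightDerived_obj_injective_succ _ q' _⟩) q F trivial
  exact ⟨e⟩

/-- Extension by zero commutes with proper direct images. -/
theorem nonempty_extZero_Rpush_iso {U V X Y : Scheme.{u}} (j₁ : U ⟶ X) [IsOpenImmersion j₁] (j₂ : V ⟶ Y)
    [IsOpenImmersion j₂] (g : U ⟶ V) [IsProper g] (f : X ⟶ Y) [IsProper f] (w : j₁ ≫ f = g ≫ j₂)
    (F : EtCoh.Ab U) (hF : EtCoh.IsTorsion F) (q : ℕ) :
    Nonempty ((EtShriek.extZero j₂).obj ((EtCoh.Rpush g q).obj F) ≅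
      (EtCoh.Rpush f q).obj ((EtShriek.extZero j₁).obj F)) := by
  let G := (EtShriek.extZero j₁).obj F
  have hG : EtCoh.IsTorsion G :=
    Groth.Agent.EtShLib.isTorsion_of_iso ((extZeroPreIso j₁ ≪≫ (lowerShriekIso j₁).symm).app F).symm
      (isTorsion_lowerShriek j₁ F hF)
  let a := pullback.fst f j₂
  let fV := pullback.snd f j₂
  let k : U ⟶ pullback f j₂ := pullback.lift j₁ g w
  have hka : k ≫ a = j₁ := pullback.lift_fst _ _ _
  have hkf : k ≫ fV = g := pullback.lift_snd _ _ _
  haveI : IsOpenImmersion (k ≫ a) := by rw [hka]; infer_instance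
  haveI : IsOpenImmersion k := IsOpenImmersion.of_comp k a
  haveI : IsProper (k ≫ fV) := by rw [hkf]; infer_instance
  haveI : IsProper k := IsProper.of_comp k fV
  haveI : IsClosedImmersion k := IsClosedImmersion.of_isPreimmersion k k.isClosedMap.isClosed_range
  let G' := (EtCoh.pull a).obj G
  let u₀ := (EtCoh.pullPushAdj k).unit.app G'
  haveI : IsIso u₀ := isIso_of_stalks (A := AddCommGrpCat.{u + 1}) _ fun Ω _ _ ξ => by
    by_cases hξ : ξ.base default ∈ Set.range k.base
    · obtain ⟨ζ, rfl⟩ := exists_factor k ξ hξ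
      exact isIso_unit_stalk_closed k G' ζ
    · haveI := subsingleton_push_stalk k ((EtCoh.pull k).obj G') ξ hξ
      refine isIso_of_source_target_iso_zero _ (IsZero.of_iso (isZero_stalk_extZero j₁ F (ξ ≫ a) fun h => hξ ?_)
        ((stalkPull a ξ AddCommGrpCat.{u + 1}).app _).symm).isoZero
        (AddCommGrpCat.isZero_of_subsingleton ((stk (A := AddCommGrpCat.{u + 1}) ξ).obj ((EtCoh.push k).obj ((EtCoh.pull k).obj G')))).isoZero
      obtain ⟨v, hv⟩ := h
      refine ⟨v, (pullback.fst f j₂).isOpenEmbedding.injective ?_⟩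
      rw [← Scheme.Hom.comp_apply, hka]
      exact hv
  haveI := Groth.Agent.EtShLib.isIso_unit j₁ F
  obtain ⟨er⟩ := nonempty_pull_iso_restrAlong j₁ G
  let eF : (EtCoh.pull k).obj G' ≅ F :=
    ((EtCore.pullComp k a).symm ≪≫ EtCore.pullCongr hka).app G ≪≫ er ≪≫ (asIso ((EtShriek.extZeroAdj j₁).unit.app F)).symm
  obtain ⟨er₂⟩ := nonempty_pull_iso_restrAlong j₂ ((EtCoh.Rpush f q).obj G)
  haveI := EtPBCProperLib.isIso_bcQ j₂ f fV a (IsPullback.of_hasPullback f j₂) G hG q
  obtain ⟨ec⟩ := nonempty_Rpush_comp_finite k fV g hkf F q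
  let E : (EtShriek.restrAlong j₂).obj ((EtCoh.Rpush f q).obj G) ≅ (EtCoh.Rpush g q).obj F :=
    er₂.symm ≪≫ asIso (EtBC.bcQ f j₂ fV a (IsPullback.of_hasPullback f j₂).w q G) ≪≫
      (EtCoh.Rpush fV q).mapIso (asIso u₀ ≪≫ (EtCoh.push k).mapIso eF) ≪≫ ec.symm
  obtain ⟨e⟩ := nonempty_iso_extZero j₂ ((EtCoh.Rpush g q).obj F) ((EtCoh.Rpush f q).obj G) E fun Ω _ _ ξ hξ => by
    obtain ⟨es⟩ := nonempty_stalk_iso f ξ G hG q
    refine IsZero.of_iso ?_ es
    haveI : CompactSpace ↥(pullback f ξ) := QuasiCompact.compactSpace_of_compactSpace (pullback.snd f ξ)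
    refine AddCommGrpCat.isZero_iff_subsingleton.2 (EtBcBridgeLib.subsingleton_H_of_isZero ?_ q)
    refine EtPBCProperLib.isZero_of_geomPt_stalks _ fun z => ?_
    let R := HenselLib.SH ((pullback f ξ).presheaf.stalk z)
    have hS : Hensel.IsStrictHenselization ((pullback f ξ).presheaf.stalk z) R := inferInstance
    haveI : IsSepClosed (IsLocalRing.ResidueField R) := hS.isSepClosure.sep_closed
    refine ⟨R, inferInstance, inferInstance, inferInstance, inferInstance, inferInstance, ?_⟩
    let η := Hens2.geomPt (pullback f ξ) z R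
    haveI := AddCommGrpCat.subsingleton_of_isZero (IsZero.of_iso (isZero_stalk_extZero j₁ F (η ≫ pullback.fst f ξ) fun h => ?_)
      ((stalkPull (pullback.fst f ξ) η AddCommGrpCat.{u + 1}).app _).symm)
    · assumption
    obtain ⟨v, hv⟩ := h
    refine hξ ⟨(pullback.snd f ξ).base (η.base default), rfl⟩ ⟨g.base v, ?_⟩
    rw [← Scheme.Hom.comp_apply, ← w, Scheme.Hom.comp_apply, hv, Scheme.Hom.comp_apply, ← Scheme.Hom.comp_apply,
      pullback.condition, Scheme.Hom.comp_apply]
  exact ⟨e.symm⟩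

theorem isTorsion_of_killedBy {X : Scheme.{u}} {F : EtCoh.Ab X} {n : ℕ} (hn : 0 < n) (hF : EtCoh.KilledBy n F) :
    EtCoh.IsTorsion F :=
  EtPBCProperLib.isTorsion_of_torsionBy fun Ω _ _ ξ p => by
    obtain ⟨m, hm, hp⟩ := torsionBy_of_killedBy hF Ω ξ p
    exact ⟨m, hm ▸ hn, hp⟩

end EtPBCCdLib

end
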